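import Mathlib

/-!
The trace form of a finite local algebra over a field.
-/

set_option autoImplicit false
set_option linter.style.haveILetI false
set_option backward.isDefEq.respectTransparency false

universe u

namespace Groth.Agent.LocalTraceLib

variable {k : Type u} [Field k]

theorem trace_exact {W M Q : Type u} [AddCommGroup W] [Module k W] [AddCommGroup M] [Module k M]
    [AddCommGroup Q] [Module k Q] [Module.Finite k W] [Module.Finite k M] [Module.Finite k Q]
    (ι : W →ₗ[k] M) (q : M →ₗ[k] Q) (hι : Function.Injective ι) (hq : Function.Surjective q)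
    (hex : Function.Exact ι q) (f : M →ₗ[k] M) (fW : W →ₗ[k] W) (fQ : Q →ₗ[k] Q)
    (h1 : f ∘ₗ ι = ι ∘ₗ fW) (h2 : q ∘ₗ f = fQ ∘ₗ q) :
    LinearMap.trace k M f = LinearMap.trace k W fW + LinearMap.trace k Q fQ := by
  obtain ⟨p, hp⟩ := LinearMap.exists_leftInverse_of_injective ι (LinearMap.ker_eq_bot.2 hι)
  obtain ⟨s₀, hs₀⟩ := LinearMap.exists_rightInverse_of_surjective q (LinearMap.range_eq_top.2 hq)
  let s : Q →ₗ[k] M := s₀ - ι ∘ₗ p ∘ₗ s₀
  have hqι : q ∘ₗ ι = 0 := hex.linearMap_comp_eq_zero
  have hqs : q ∘ₗ s = LinearMap.id := by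
    simp only [s, LinearMap.comp_sub, ← LinearMap.comp_assoc, hqι, LinearMap.zero_comp, sub_zero, hs₀]
  have hps : p ∘ₗ s = 0 := by
    simp only [s, LinearMap.comp_sub, ← LinearMap.comp_assoc, hp, LinearMap.id_comp, sub_self]
  have hid : ι ∘ₗ p + s ∘ₗ q = LinearMap.id := LinearMap.ext fun x => by
    obtain ⟨w, hw⟩ := (hex (x - s (q x))).1 (by
      rw [map_sub, ← LinearMap.comp_apply q s, hqs, LinearMap.id_apply, sub_self])
    have h0 : p x = w := by
      have := congrArg p hw
      rw [← LinearMap.comp_apply p ι, hp, LinearMap.id_apply, map_sub, ← LinearMap.comp_apply p s, hps,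
        LinearMap.zero_apply, sub_zero] at this
      exact this.symm
    show ι (p x) + s (q x) = x
    rw [h0, hw, sub_add_cancel]
  have e : f = (f ∘ₗ ι) ∘ₗ p + (f ∘ₗ s) ∘ₗ q := by
    rw [LinearMap.comp_assoc, LinearMap.comp_assoc, ← LinearMap.comp_add, hid, LinearMap.comp_id]
  rw [e, map_add, LinearMap.trace_comp_comm', LinearMap.trace_comp_comm' q (f ∘ₗ s)]
  congr 2
  · rw [h1, ← LinearMap.comp_assoc, hp, LinearMap.id_comp]
  · rw [← LinearMap.comp_assoc, h2, LinearMap.comp_assoc, hqs, LinearMap.comp_id]

variable {C : Type u} [CommRing C] [Algebra k C] [IsLocalRing C] [Module.Finite k C]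

instance finite_residueField : Module.Finite k (IsLocalRing.ResidueField C) :=
  Module.Finite.of_surjective (IsScalarTower.toAlgHom k C (IsLocalRing.ResidueField C)).toLinearMap
    Ideal.Quotient.mk_surjective

/-- Multiplication by `x`. -/
def mulMap (M : Type u) [AddCommGroup M] [Module k M] [Module C M] [IsScalarTower k C M] (x : C) : M →ₗ[k] M :=
  (DistribSMul.toLinearMap C M x).restrictScalars k

theorem trace_mulMap (x : C) : ∀ (d : ℕ) (M : Type u) [AddCommGroup M] [Module k M] [Module C M]
    [IsScalarTower k C M] [Module.Finite k M], Module.finrank k M ≤ d →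
    LinearMap.trace k M (mulMap M x) =
      (Module.length C M).toNat • Algebra.trace k (IsLocalRing.ResidueField C) (IsLocalRing.residue C x) := by
  intro d
  induction d with
  | zero =>
    intro M _ _ _ _ _ h
    haveI : Subsingleton M := Module.finrank_zero_iff.1 (Nat.le_zero.1 h)
    rw [Module.length_eq_zero, ENat.toNat_zero, zero_smul, Subsingleton.elim (mulMap M x) 0, map_zero]
  | succ d ih =>
    intro M _ _ _ _ _ h
    rcases subsingleton_or_nontrivial M with hM | hM
    · rw [Module.length_eq_zero, ENat.toNat_zero, zero_smul, Subsingleton.elim (mulMap M x) 0, map_zero]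
    haveI : IsArtinian C M := isArtinian_of_tower k (inferInstance : IsArtinian k M)
    haveI : IsNoetherian C M := isNoetherian_of_tower k (inferInstance : IsNoetherian k M)
    obtain ⟨W, hW⟩ := IsAtomic.exists_atom (Submodule C M)
    haveI hWs : IsSimpleModule C W := isSimpleModule_iff_isAtom.2 hW
    haveI : Nontrivial W := IsSimpleModule.nontrivial C W
    obtain ⟨I, hI, ⟨e⟩⟩ := isSimpleModule_iff_quot_maximal.1 hWs
    obtain rfl := IsLocalRing.eq_maximalIdeal hI
    haveI : Module.Finite k W := Module.Finite.of_injective (W.subtype.restrictScalars k) Subtype.val_injective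
    haveI : Module.Finite k (M ⧸ W) := Module.Finite.of_surjective (W.mkQ.restrictScalars k) W.mkQ_surjective
    have hWtr : LinearMap.trace k W (mulMap W x) =
        Algebra.trace k (IsLocalRing.ResidueField C) (IsLocalRing.residue C x) := by
      let e' : W ≃ₗ[k] IsLocalRing.ResidueField C := e.restrictScalars k
      rw [Algebra.trace_apply, ← LinearMap.trace_conj' (mulMap W x) e']
      congr 1
      refine LinearMap.ext fun z => ?_
      show e (x • e.symm z) = IsLocalRing.residue C x * z
      rw [map_smul, e.apply_symm_apply]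
      exact Algebra.smul_def (A := IsLocalRing.ResidueField C) x z
    have hfin : Module.finrank k (M ⧸ W) < Module.finrank k M := by
      have h1 := Submodule.finrank_quotient_add_finrank (W.restrictScalars k)
      have h2 : 0 < Module.finrank k (W.restrictScalars k) := Module.finrank_pos (R := k) (M := W)
      have h3 : Module.finrank k (M ⧸ W) = Module.finrank k (M ⧸ W.restrictScalars k) :=
        (Submodule.Quotient.restrictScalarsEquiv k W).finrank_eq.symm
      omega
    have hQ := ih (M ⧸ W) (by omega)
    have hlen : (Module.length C M).toNat = 1 + (Module.length C (M ⧸ W)).toNat := by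
      rw [Module.length_eq_add_of_exact W.subtype W.mkQ Subtype.val_injective W.mkQ_surjective
        (LinearMap.exact_subtype_mkQ W), ENat.toNat_add Module.length_ne_top Module.length_ne_top,
        Module.length_eq_one, ENat.toNat_one]
    rw [trace_exact (W.subtype.restrictScalars k) (W.mkQ.restrictScalars k) Subtype.val_injective W.mkQ_surjective
      (LinearMap.exact_subtype_mkQ W) (mulMap M x) (mulMap W x) (mulMap (M ⧸ W) x) (LinearMap.ext fun _ => rfl)
      (LinearMap.ext fun _ => rfl), hWtr, hQ, hlen, add_smul, one_smul]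

theorem trace_eq (x : C) :
    Algebra.trace k C x =
      (Module.length C C).toNat • Algebra.trace k (IsLocalRing.ResidueField C) (IsLocalRing.residue C x) := by
  rw [← trace_mulMap x _ C le_rfl, Algebra.trace_apply]
  rfl

end Groth.Agent.LocalTraceLib
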